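import Cfsg.Agent.Lib.Recog.SporBound.Sound
import Cfsg.Agent.Lib.Recog.SporBound.Fi22A.Tree0
import Cfsg.Agent.Lib.Recog.SporBound.Fi22A.Tree1
import Cfsg.Agent.Lib.Recog.SporBound.Fi22A.Tree2
import Cfsg.Agent.Lib.Recog.SporBound.Fi22A.Tree3

set_option autoImplicit false
set_option maxRecDepth 20000

/-! Generated closure certificate: presented Fi22, <b..g> over 1 (owner: lead). -/

namespace CfsgLib.Recog.SporBound.Fi22A
open CfsgLib.Recog.SporBound

noncomputable def factTree : Q (ℕ) := (.node (.node ft8 ft17 ft25 ft33) (.node ft42 ft51 ft59 ft67) (.node ft76 ft85 ft93 ft101) (.node ft110 ft118 ft126 ft134))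
noncomputable def nodeTree : Q (ℕ) := (.node ct10 ct21 ct32 ct43)
noncomputable def stepTree : Q (List ℕ) := (.node (.node st10 st21 st32 st43) (.node st54 st65 st76 st87) (.node st98 st109 st120 st130) (.node st141 st152 st163 st173))
noncomputable def finalTree : Q (List ℕ) := (.node (.node (.node et8 et17 et25 et33) (.node et42 et51 et59 et67) (.node et76 et85 et93 et101) (.node et110 et118 et126 et134)) (.node (.node et143 et152 et160 et168) (.node et177 et186 et194 et202) (.node et211 et219 et227 et235) (.node et244 et252 et260 et268)) (.node (.node et277 et286 et294 et302) (.node et311 et320 et328 et336) (.node et345 et353 et361 et369) (.node et378 et386 et394 et402)) (.node (.node et411 et420 et428 et436) (.node et445 et454 et462 et470) (.node et479 et487 et495 et503) (.node et512 et520 et528 et536)))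

/-- The certificate. -/
noncomputable def cert : Cert where
  n := 5040
  nd := 5039
  nf := 15120
  kl := [1, 2, 3, 4, 5, 6]
  facts := factTree
  cn := nodeTree
  steps := stepTree
  finals := finalTree
  rels := [[1, 1], [2, 2], [3, 3], [4, 4], [5, 5], [6, 6], [1, 2, 1, 2, 1, 2], [1, 3, 1, 3], [1, 4, 1, 4], [1, 5, 1, 5], [1, 6, 1, 6], [2, 3, 2, 3, 2, 3], [2, 4, 2, 4], [2, 5, 2, 5], [2, 6, 2, 6], [3, 4, 3, 4, 3, 4], [3, 5, 3, 5], [3, 6, 3, 6], [4, 5, 4, 5, 4, 5], [4, 6, 4, 6], [5, 6, 5, 6, 5, 6]]
  subs := []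

/-- Chains of the traced words. -/
noncomputable def closers : List ℕ := []

end CfsgLib.Recog.SporBound.Fi22A
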